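import Cfsg.Prelude
import Cfsg.Agent.Lib.TwoFusion.MetacyclicAutMain
import Cfsg.Agent.Lib.Semilinear.RegularSolvable
import Cfsg.Agent.Lib.Solvable.UniqueInvolution
import Cfsg.Agent.Lib.StdForm.FpfThree

/-!
A group of odd prime power order acting nontrivially on a 2-group with one involution:
the 2-group is quaternion of order eight and the action has image of order three.
-/

set_option autoImplicit false

namespace CfsgLib.TwoFusion.LocalFix

open Subgroup

variable {Q : Type*} [Group Q] [Finite Q]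

theorem isMetacyclic_of_unique (hQ : IsPGroup 2 Q)
    (huniq : ∀ u v : Q, orderOf u = 2 → orderOf v = 2 → u = v) : Cfsg.IsMetacyclic Q := by
  haveI : Fact (Nat.Prime 2) := ⟨Nat.prime_two⟩
  rcases CfsgLib.Solvable.isCyclic_or_quaternion_of_unique_involution hQ (fun u v hu hu1 hv hv1 =>
      huniq u v (orderOf_eq_prime hu hu1) (orderOf_eq_prime hv hv1)) with h | ⟨k, ⟨e⟩⟩
  · haveI : Subsingleton (Q ⧸ (⊤ : Subgroup Q)) := QuotientGroup.subsingleton_quotient_top
    exact ⟨⊤, inferInstance, isCyclic_of_surjective (topEquiv (G := Q)).symm topEquiv.symm.surjective,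
      isCyclic_of_subsingleton⟩
  · haveI : NeZero (2 ^ k) := ⟨pow_ne_zero _ two_ne_zero⟩
    set g : Q := e.symm (QuaternionGroup.a 1) with hg
    have hog : orderOf g = 2 * 2 ^ k := by
      rw [hg, e.symm.orderOf_eq, QuaternionGroup.orderOf_a_one]
    have hcard : Nat.card Q = 4 * 2 ^ k := by
      rw [Nat.card_congr e.toEquiv, Nat.card_eq_fintype_card, QuaternionGroup.card]
    have hidx : (zpowers g).index = 2 := by
      have h := card_mul_index (zpowers g)
      rw [Nat.card_zpowers, hog, hcard] at h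
      refine Nat.eq_of_mul_eq_mul_left (show 0 < 2 * 2 ^ k by positivity) ?_
      rw [h]; ring
    haveI := normal_of_index_eq_two hidx
    exact ⟨zpowers g, inferInstance, inferInstance,
      isCyclic_of_prime_card (p := 2) (by rw [← hidx]; rfl)⟩

theorem q8_center : ∀ x : QuaternionGroup 2, (∀ y, x * y = y * x) → x * x = 1 := by decide +kernel

variable {T : Type*} [Group T] {p : ℕ} [Fact p.Prime]

theorem quaternion_of_action (hp : p ≠ 2) (hQ : IsPGroup 2 Q)
    (huniq : ∀ u v : Q, orderOf u = 2 → orderOf v = 2 → u = v)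
    (hT : IsPGroup p T) (ρ : T →* MulAut Q) (hne : ∃ t, ρ t ≠ 1) :
    p = 3 ∧ Nat.card Q = 8 ∧ ρ.ker.index = 3 ∧ (∀ x : Q, (∀ w, x * w = w * x) → x * x = 1) ∧
      (∀ x : Q, (x * x) * (x * x) = 1) ∧
      (∀ t, ρ t ≠ 1 → ∀ q, ρ t q = q → q * q = 1) ∧
      (∀ t, ρ t ≠ 1 → ∀ U : Subgroup Q, (∀ u ∈ U, ρ t u ∈ U) → (∀ u ∈ U, u * u = 1) ∨ U = ⊤) := by
  have hpp : p.Prime := Fact.out
  haveI : Fact (Nat.Prime 2) := ⟨Nat.prime_two⟩
  have hodd : ∀ t a, ρ t ^ 2 ^ a = 1 → ρ t = 1 := by
    intro t a ha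
    obtain ⟨k, hk⟩ := hT t
    have h1 : ρ t ^ p ^ k = 1 := by rw [← map_pow, hk, map_one]
    have h2 : orderOf (ρ t) ∣ Nat.gcd (2 ^ a) (p ^ k) :=
      Nat.dvd_gcd (orderOf_dvd_of_pow_eq_one ha) (orderOf_dvd_of_pow_eq_one h1)
    rw [Nat.Coprime.gcd_eq_one ((((Nat.coprime_primes Nat.prime_two hpp).mpr (Ne.symm hp)).pow_left a).pow_right k),
      Nat.dvd_one, orderOf_eq_one_iff] at h2
    exact h2
  obtain ⟨t₀, ht₀⟩ := hne
  have hA : ¬ IsPGroup 2 (MulAut Q) := fun h => by
    obtain ⟨a, ha⟩ := h (ρ t₀)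
    exact ht₀ (hodd t₀ a ha)
  obtain ⟨e⟩ : Nonempty (Q ≃* QuaternionGroup 2) := by
    rcases MetacyclicAut.metacyclic_odd_aut hQ (isMetacyclic_of_unique hQ huniq) hA with h | ⟨n, ⟨f⟩⟩
    · exact h
    · exfalso
      rcases Nat.eq_zero_or_pos n with rfl | hn
      · haveI : Subsingleton (Multiplicative (ZMod (2 ^ 0))) :=
          inferInstanceAs (Subsingleton (ZMod 1))
        haveI : Subsingleton Q := f.toEquiv.subsingleton
        exact ht₀ (MulEquiv.ext fun _ => Subsingleton.elim _ _)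
      · haveI : NeZero (2 ^ n) := ⟨pow_ne_zero _ two_ne_zero⟩
        obtain ⟨w, hw⟩ := exists_prime_orderOf_dvd_card' (G := Multiplicative (ZMod (2 ^ n))) 2 (by
          show 2 ∣ Nat.card (ZMod (2 ^ n))
          rw [Nat.card_zmod]; exact dvd_pow_self 2 hn.ne')
        have h1 : orderOf (f.symm (w, 1)) = 2 := by rw [f.symm.orderOf_eq, Prod.orderOf, hw, orderOf_one]; rfl
        have h2 : orderOf (f.symm (1, w)) = 2 := by rw [f.symm.orderOf_eq, Prod.orderOf, hw, orderOf_one]; rfl
        have h3 := congrArg Prod.fst (f.symm.injective (huniq _ _ h1 h2))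
        simp only at h3
        rw [h3, orderOf_one] at hw
        exact absurd hw (by norm_num)
  have hcard : Nat.card Q = 8 := by
    rw [Nat.card_congr e.toEquiv, Nat.card_eq_fintype_card, QuaternionGroup.card]
  set θ : MulAut Q ≃* MulAut (QuaternionGroup 2) := MulAut.congr e with hθ
  set f : T →* Equiv.Perm (Fin 3) := (Semilinear.qPerm.comp θ.toMonoidHom).comp ρ with hf
  have hker : f.ker = ρ.ker := by
    ext t
    simp only [MonoidHom.mem_ker]
    constructor
    · intro h
      have h1 : θ (ρ t) ∈ Semilinear.qPerm.ker := h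
      rw [Semilinear.ker_qPerm] at h1
      have h2 : (⟨θ (ρ t), h1⟩ : (MulAut.conj (G := QuaternionGroup 2)).range) ^ 4 = 1 := by
        rw [← Semilinear.card_range_conj]; exact pow_card_eq_one'
      have h3 : θ (ρ t) ^ 4 = 1 := congrArg Subtype.val h2
      refine hodd t 2 (θ.injective ?_)
      rw [map_pow, map_one]; exact h3
    · intro h
      show Semilinear.qPerm (θ (ρ t)) = 1
      rw [h, map_one, map_one]
  have h6 : Nat.card f.range ∣ 6 := by
    have h := f.range.card_subgroup_dvd_card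
    have h3 : Nat.card (Equiv.Perm (Fin 3)) = 6 := by
      rw [Nat.card_eq_fintype_card, Fintype.card_perm, Fintype.card_fin]; rfl
    rwa [h3] at h
  have hidx : ρ.ker.index = Nat.card f.range := by rw [← hker, Subgroup.index_ker]
  obtain ⟨a, ha⟩ : ∃ a, ρ.ker.index = p ^ a :=
    hT.index ρ.ker
  have hne1 : ρ.ker.index ≠ 1 := fun h => by
    rw [Subgroup.index_eq_one] at h
    exact ht₀ (MonoidHom.mem_ker.mp (h ▸ mem_top t₀))
  have hpd : p ∣ 6 := by
    rw [← hidx, ha] at h6
    rcases a with _ | a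
    · exact absurd (by rw [ha, pow_zero]) hne1
    · exact (dvd_pow_self p a.succ_ne_zero).trans h6
  have hp3 : p = 3 := by
    have := Nat.le_of_dvd (by norm_num) hpd
    interval_cases p <;> first | rfl | omega | exact absurd hpp (by norm_num)
  subst hp3
  have hi3 : ρ.ker.index = 3 := by
    rw [← hidx, ha] at h6
    rcases a with _ | _ | a
    · exact absurd (by rw [ha, pow_zero]) hne1
    · rw [ha, pow_one]
    · exfalso
      have : (3 : ℕ) ^ 2 ∣ 6 := (pow_dvd_pow 3 (by omega)).trans h6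
      norm_num at this
  have hcube : ∀ t x, ρ t (ρ t (ρ t x)) = x := by
    intro t x
    have h : t ^ 3 ∈ ρ.ker := hi3 ▸ Subgroup.pow_index_mem ρ.ker t
    rw [MonoidHom.mem_ker, map_pow] at h
    exact DFunLike.congr_fun h x
  have key : ∀ t, ρ t ≠ 1 → (∀ q, ρ t q = q → q * q = 1) ∧
      ∀ U : Subgroup Q, (∀ u ∈ U, ρ t u ∈ U) → (∀ u ∈ U, u * u = 1) ∨ U = ⊤ := by
    intro t ht
    set F : Subgroup Q := (ρ t).toMonoidHom.eqLocus (MonoidHom.id Q) with hF
    have hmod : ∀ U : Subgroup Q, (∀ u ∈ U, ρ t u ∈ U) →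
        Nat.card U % 3 = Nat.card ↥(F ⊓ U) % 3 := by
      intro U hU
      rw [StdForm.card_modEq_fixed (fun u : U => (⟨ρ t u, hU u u.2⟩ : U)) (fun u => Subtype.ext (hcube t u))]
      congr 1
      refine Nat.card_congr ⟨fun u => ⟨u.1.1, congrArg Subtype.val u.2, u.1.2⟩,
        fun u => ⟨⟨u.1, u.2.2⟩, Subtype.ext u.2.1⟩, fun _ => rfl, fun _ => rfl⟩
    have hsmall : ∀ V : Subgroup Q, Nat.card V ∣ 2 → ∀ u ∈ V, u * u = 1 := by
      intro V hV u hu
      have h : (⟨u, hu⟩ : V) ^ 2 = 1 := by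
        obtain ⟨c, hc⟩ := hV
        rw [hc, pow_mul, pow_card_eq_one', one_pow]
      simpa [sq] using congrArg Subtype.val h
    have hdiv : ∀ V : Subgroup Q, Nat.card V = 1 ∨ Nat.card V = 2 ∨ Nat.card V = 4 ∨ V = ⊤ := by
      intro V
      have hd := hcard ▸ V.card_subgroup_dvd_card
      have hl := Nat.le_of_dvd (by norm_num) hd
      by_cases h8 : Nat.card V = 8
      · exact Or.inr (Or.inr (Or.inr (eq_top_of_card_eq V (by rw [h8, hcard]))))
      · interval_cases hv : Nat.card V <;> first | (left; rfl) | (right; left; rfl) | (right; right; left; rfl) | omega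
    have hF2 : Nat.card F = 2 := by
      have h := hmod ⊤ (fun u _ => mem_top _)
      rw [inf_top_eq, card_top, hcard] at h
      rcases hdiv F with h1 | h1 | h1 | h1
      · omega
      · exact h1
      · omega
      · refine absurd (MulEquiv.ext fun x => ?_) ht
        exact (show x ∈ F from h1 ▸ mem_top x)
    refine ⟨fun q hq => hsmall F (by rw [hF2]) q hq, fun U hU => ?_⟩
    rcases hdiv U with h1 | h1 | h1 | h1
    · exact Or.inl (hsmall U (by rw [h1]; norm_num))
    · exact Or.inl (hsmall U (by rw [h1]))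
    · exfalso
      have h := hmod U hU
      rw [h1] at h
      have hle : Nat.card ↥(F ⊓ U) = 2 := by
        obtain ⟨u, hu⟩ := exists_prime_orderOf_dvd_card' (G := U) 2 (by rw [h1]; norm_num)
        obtain ⟨v, hv⟩ := exists_prime_orderOf_dvd_card' (G := F) 2 (by rw [hF2])
        have huv : (u : Q) = v := huniq _ _ (by rw [orderOf_coe]; exact hu) (by rw [orderOf_coe]; exact hv)
        have hvU : (v : Q) ∈ F ⊓ U := ⟨v.2, huv ▸ u.2⟩
        have hge : orderOf (v : Q) ∣ Nat.card ↥(F ⊓ U) := by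
          rw [← orderOf_mk _ hvU]; exact orderOf_dvd_natCard _
        rw [orderOf_coe, hv] at hge
        have hle := Subgroup.card_dvd_of_le (inf_le_left : F ⊓ U ≤ F)
        rw [hF2] at hle
        exact Nat.dvd_antisymm hle hge
      omega
    · exact Or.inr h1
  refine ⟨rfl, hcard, hi3, fun x hx => ?_, fun x => ?_, fun t ht => (key t ht).1, fun t ht => (key t ht).2⟩
  · apply e.injective
    rw [map_mul, map_one]
    refine q8_center _ fun y => ?_
    obtain ⟨w, rfl⟩ := e.surjective y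
    rw [← map_mul, ← map_mul, hx]
  · apply e.injective
    rw [map_mul, map_mul, map_one]
    revert x
    intro x
    exact (show ∀ y : QuaternionGroup 2, (y * y) * (y * y) = 1 by decide +kernel) (e x)

end CfsgLib.TwoFusion.LocalFix
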