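import Cfsg.Prelude
import Cfsg.Agent.Lib.TwoFusion.LocalFix.OddAutUnique
import Cfsg.Agent.Lib.Solvable.CoprimeMulAction
import Cfsg.Agent.Lib.PGroup.Basic
import Cfsg.Agent.Lib.CN.Local

/-!
Non-cyclic abelian odd automorphism groups of 2-groups all of whose nontrivial elements fix at most
one involution.
-/

set_option autoImplicit false

namespace CfsgLib.TwoFusion.LocalFix

open Subgroup
open scoped commutatorElement

variable {W : Type*} [Group W] [Finite W]

/-- The fixed-point subgroup of an automorphism. -/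
def fixedBy (e : MulAut W) : Subgroup W where
  carrier := {x | e x = x}
  mul_mem' := fun {a b} (ha : e a = a) (hb : e b = b) => show e (a * b) = a * b by rw [map_mul, ha, hb]
  one_mem' := map_one e
  inv_mem' := fun {a} (ha : e a = a) => show e a⁻¹ = a⁻¹ by rw [map_inv, ha]

theorem mem_fixedBy {e : MulAut W} {x : W} : x ∈ fixedBy e ↔ e x = x := Iff.rfl

variable {p : ℕ} [Fact p.Prime] {E : Subgroup (MulAut W)}

/-- The restriction of `E` to an invariant subgroup. -/
def restrict (E : Subgroup (MulAut W)) (U : Subgroup W) (hU : ∀ f ∈ E, ∀ x ∈ U, f x ∈ U) :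
    E →* MulAut U where
  toFun f :=
    { toFun := fun x => ⟨(f : MulAut W) x, hU f f.2 x x.2⟩
      invFun := fun x => ⟨((f : MulAut W)⁻¹) x, hU _ (E.inv_mem f.2) x x.2⟩
      left_inv := fun x => Subtype.ext ((f : MulAut W).symm_apply_apply _)
      right_inv := fun x => Subtype.ext ((f : MulAut W).apply_symm_apply _)
      map_mul' := fun x y => Subtype.ext (map_mul (f : MulAut W) _ _) }
  map_one' := rfl
  map_mul' _ _ := rfl

theorem gen_fixed (hW : IsPGroup 2 W) (hp : p ≠ 2) (hE : IsPGroup p E) (hab : IsMulCommutative E)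
    (hnc : ¬ IsCyclic E) (U : Subgroup W) (hU : ∀ f ∈ E, ∀ x ∈ U, f x ∈ U) (T : Subgroup W)
    (hT : ∀ e ∈ E, e ≠ 1 → U ⊓ fixedBy e ≤ T) : U ≤ T := by
  haveI := hab
  haveI : Finite (MulAut W) := Finite.of_injective _ MulEquiv.toEquiv_injective
  letI : MulDistribMulAction E U := MulDistribMulAction.compHom U (restrict E U hU)
  have hcop : (Nat.card E).Coprime (Nat.card U) := by
    obtain ⟨a, ha⟩ := hE.exists_card_eq
    haveI : Fact (Nat.Prime 2) := ⟨Nat.prime_two⟩
    obtain ⟨b, hb⟩ := (hW.to_subgroup U).exists_card_eq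
    rw [ha, hb]
    exact (((Nat.coprime_primes Fact.out Nat.prime_two).mpr hp).pow_left a).pow_right b
  have h := CfsgLib.Solvable.eq_top_of_smul_fixed_mem (A := E) (K := U) hnc hcop (T.subgroupOf U)
    (fun a ha k hk => mem_subgroupOf.mpr (hT a a.2 (fun h1 => ha (Subtype.ext h1))
      (mem_inf.mpr ⟨k.2, (congrArg Subtype.val hk : _)⟩)))
  exact fun x hx => mem_subgroupOf.mp (h ▸ mem_top (⟨x, hx⟩ : U))

theorem card_sup_of_commute {A B : Subgroup W} (h : ∀ a ∈ A, ∀ b ∈ B, a * b = b * a) :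
    Nat.card ↥(A ⊔ B) * Nat.card ↥(A ⊓ B) = Nat.card A * Nat.card B := by
  have hn : A ⊔ B ≤ normalizer (B : Set W) := by
    refine sup_le (fun a ha => ?_) le_normalizer
    exact centralizer_le_normalizer _ (fun b hb => (h a ha b hb).symm)
  set M := A ⊔ B with hM
  haveI : (B.subgroupOf M).Normal := (normal_subgroupOf_iff_le_normalizer le_sup_right).mpr hn
  have hcast : ∀ K : Subgroup W, K ≤ M → Nat.card (K.subgroupOf M) = Nat.card K :=
    fun K hK => Nat.card_congr (subgroupOfEquivOfLe hK).toEquiv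
  have key := CfsgLib.CN.card_sup_mul_card_inf (A.subgroupOf M) (B.subgroupOf M)
  rw [← subgroupOf_sup le_sup_left le_sup_right, subgroupOf_self, card_top,
    show A.subgroupOf M ⊓ B.subgroupOf M = (A ⊓ B).subgroupOf M from rfl, hcast _ le_sup_left,
    hcast _ le_sup_right, hcast _ (inf_le_left.trans le_sup_left)] at key
  exact key

variable (hW : IsPGroup 2 W) (hp : p ≠ 2) (hE : IsPGroup p E) (hab : IsMulCommutative E)
  (hnc : ¬ IsCyclic E)
  (hfix : ∀ e ∈ E, e ≠ 1 → ∀ x y : W, orderOf x = 2 → orderOf y = 2 → e x = x → e y = y → x = y)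

include hab in
theorem fixedBy_invariant {e : MulAut W} (he : e ∈ E) :
    ∀ f ∈ E, ∀ x ∈ fixedBy e, f x ∈ fixedBy e := by
  intro f hf x hx
  have h : e * f = f * e := congrArg Subtype.val (hab.is_comm.comm ⟨e, he⟩ ⟨f, hf⟩)
  show e (f x) = f x
  rw [← MulAut.mul_apply, h, MulAut.mul_apply, mem_fixedBy.mp hx]

include hW hp hE hab hnc hfix in
theorem main : Nat.card E = 9 ∧ Cfsg.IsExtraspecial 2 W ∧
    (Nat.card W = 2 ^ 5 ∨ Nat.card W = 2 ^ 7 ∨ Nat.card W = 2 ^ 9) ∧
    {x : W | ∀ e ∈ E, e x = x} = (Subgroup.center W : Set W) := by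
  classical
  haveI : Finite (MulAut W) := Finite.of_injective _ MulEquiv.toEquiv_injective
  haveI : Fact (Nat.Prime 2) := ⟨Nat.prime_two⟩
  haveI := hab
  haveI : Nontrivial W := by
    by_contra h
    rw [not_nontrivial_iff_subsingleton] at h
    haveI : Subsingleton (MulAut W) := ⟨fun a b => MulEquiv.ext fun x => Subsingleton.elim _ _⟩
    exact hnc inferInstance
  -- the fixed central involution
  obtain ⟨z, hz2, hzc, hzfix⟩ : ∃ z : W, orderOf z = 2 ∧ z ∈ center W ∧ ∀ f ∈ E, f z = z := by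
    haveI : Nontrivial (center W) := hW.center_nontrivial
    set V : Subgroup W :=
      { carrier := {x | x ∈ center W ∧ x * x = 1}
        mul_mem' := fun {a b} ha hb => ⟨mul_mem ha.1 hb.1, by
          rw [mul_assoc, ← mul_assoc b a, mem_center_iff.mp ha.1 b, mul_assoc a b, hb.2, mul_one, ha.2]⟩
        one_mem' := ⟨one_mem _, mul_one 1⟩
        inv_mem' := fun {a} ha => ⟨inv_mem ha.1, by rw [← mul_inv_rev, ha.2, inv_one]⟩ } with hV
    have hVinv : ∀ f ∈ E, ∀ x ∈ V, f x ∈ V := fun f _ x hx => ⟨by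
      rw [mem_center_iff]
      intro y
      obtain ⟨y, rfl⟩ := f.surjective y
      rw [← map_mul, ← map_mul, mem_center_iff.mp hx.1], by rw [← map_mul, hx.2, map_one]⟩
    obtain ⟨e, he, he1, hne⟩ : ∃ e ∈ E, e ≠ 1 ∧ ¬ V ⊓ fixedBy e ≤ ⊥ := by
      by_contra h
      push Not at h
      have hbot := gen_fixed hW hp hE hab hnc V hVinv ⊥ h
      obtain ⟨c, hc⟩ := exists_prime_orderOf_dvd_card' (G := center W) 2 (by
        obtain ⟨k, hk⟩ := (hW.to_subgroup (center W)).exists_card_eq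
        rcases k with _ | k
        · have := Finite.one_lt_card (α := center W)
          omega
        · rw [hk]; exact dvd_pow_self 2 k.succ_ne_zero)
      rw [← orderOf_coe] at hc
      have h1 : (c : W) ∈ V := ⟨c.2, by rw [← sq, ← hc]; exact pow_orderOf_eq_one _⟩
      rw [mem_bot.mp (hbot h1), orderOf_one] at hc
      exact absurd hc (by norm_num)
    obtain ⟨v, hv, hv1⟩ := SetLike.not_le_iff_exists.mp hne
    have hv2 : orderOf v = 2 := orderOf_eq_prime (by rw [sq]; exact hv.1.2) hv1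
    refine ⟨v, hv2, hv.1.1, fun f hf => ?_⟩
    exact hfix e he he1 _ _ (by rw [f.orderOf_eq, hv2]) hv2
      (fixedBy_invariant hab he f hf v hv.2) hv.2
  have hinvol : ∀ e ∈ E, e ≠ 1 → ∀ x : W, e x = x → x * x = 1 → x ∈ zpowers z := by
    intro e he he1 x hx hxx
    by_cases h1 : x = 1
    · rw [h1]; exact one_mem _
    · rw [hfix e he he1 x z (orderOf_eq_prime (by rw [sq]; exact hxx) h1) hz2 hx (hzfix e he)]
      exact mem_zpowers z
  set D := zpowers z with hD
  have hDcard : Nat.card D = 2 := by rw [hD, Nat.card_zpowers, hz2]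
  have hDfix : ∀ f ∈ E, ∀ x ∈ D, f x = x := by
    rintro f hf x ⟨k, rfl⟩
    simp only [map_zpow, hzfix f hf]
  have hDc : D ≤ center W := zpowers_le.mpr hzc
  have hDsq : ∀ x ∈ D, x * x = 1 := by
    rintro x ⟨k, rfl⟩
    show z ^ k * z ^ k = 1
    rw [← (Commute.refl z).mul_zpow, ← sq, show z ^ 2 = 1 from hz2 ▸ pow_orderOf_eq_one z, one_zpow]
  -- the action on one fixed-point group
  have hC : ∀ e ∈ E, e ≠ 1 → ∀ f₀ ∈ E, (∃ x, e x = x ∧ f₀ x ≠ x) →
      p = 3 ∧ Nat.card (fixedBy e) = 8 ∧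
      (∀ x ∈ fixedBy e, (∀ w ∈ fixedBy e, x * w = w * x) → x ∈ D) ∧
      (∀ x ∈ fixedBy e, x * x ∈ D) ∧
      (∀ f ∈ E, (∃ x, e x = x ∧ f x ≠ x) → ∀ x, e x = x → f x = x → x ∈ D) ∧
      (∀ U : Subgroup W, U ≤ fixedBy e → (∀ f ∈ E, ∀ x ∈ U, f x ∈ U) → U ≤ D ∨ U = fixedBy e) ∧
      ∃ K : Subgroup E, K.index = 3 ∧ ∀ f : E, f ∈ K ↔ fixedBy e ≤ fixedBy (f : MulAut W) := by
    intro e he he1 f₀ hf₀ hmove
    set ρ := restrict E (fixedBy e) (fixedBy_invariant hab he) with hρ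
    have hρne : ∀ f : E, (∃ x, e x = x ∧ (f : MulAut W) x ≠ x) → ρ f ≠ 1 := by
      rintro f ⟨x, hx, hfx⟩ h
      exact hfx (congrArg Subtype.val (DFunLike.congr_fun h (⟨x, hx⟩ : fixedBy e)))
    obtain ⟨h3, h8, hi, hcen, h4, hfx, hinvU⟩ := quaternion_of_action hp (hW.to_subgroup (fixedBy e))
      (fun u v hu hv => Subtype.ext (hfix e he he1 _ _ (by rw [orderOf_coe]; exact hu)
        (by rw [orderOf_coe]; exact hv) u.2 v.2)) hE ρ ⟨⟨f₀, hf₀⟩, hρne _ hmove⟩
    have hsq : ∀ x : fixedBy e, x * x = 1 → (x : W) ∈ D :=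
      fun x hx => hinvol e he he1 x x.2 (congrArg Subtype.val hx)
    refine ⟨h3, h8, fun x hx hc => hsq ⟨x, hx⟩ (hcen _ fun w => Subtype.ext (hc w w.2)),
      fun x hx => hinvol e he he1 _ (mul_mem hx hx) (congrArg Subtype.val (h4 ⟨x, hx⟩) : _),
      fun f hf hm x hx hfx' => hsq ⟨x, hx⟩ (hfx ⟨f, hf⟩ (hρne ⟨f, hf⟩ hm) _ (Subtype.ext hfx')), ?_,
      ρ.ker, hi, fun f => ⟨fun h x hx => congrArg Subtype.val (DFunLike.congr_fun h (⟨x, hx⟩ : fixedBy e)),
        fun h => MulEquiv.ext fun x => Subtype.ext (h x.2)⟩⟩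
    intro U hUle hUinv
    rcases hinvU ⟨f₀, hf₀⟩ (hρne _ hmove) (U.subgroupOf (fixedBy e))
        (fun u hu => hUinv f₀ hf₀ u hu) with h | h
    · exact Or.inl fun x hx => hsq ⟨x, hUle hx⟩ (h ⟨x, hUle hx⟩ (mem_subgroupOf.mpr hx))
    · exact Or.inr (le_antisymm hUle (subgroupOf_eq_top.mp h))
  obtain ⟨e₁, he₁, he₁1, f₁, hf₁, hm₁⟩ :
      ∃ e ∈ E, e ≠ 1 ∧ ∃ f₀ ∈ E, ∃ x, e x = x ∧ f₀ x ≠ x := by
    by_contra h
    push Not at h
    apply hnc
    have : ∀ f ∈ E, f = 1 := by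
      intro f hf
      refine MulEquiv.ext fun x => ?_
      exact gen_fixed hW hp hE hab hnc ⊤ (fun _ _ _ _ => mem_top _) (fixedBy f)
        (fun e he he1 y hy => h e he he1 f hf y hy.2) (mem_top x)
    haveI : Subsingleton E := ⟨fun a b => Subtype.ext (by rw [this a a.2, this b b.2])⟩
    exact isCyclic_of_subsingleton
  obtain ⟨rfl, -, -, -, hfx₁, -, -⟩ := hC e₁ he₁ he₁1 f₁ hf₁ hm₁
  have hDall : ∀ x : W, (∀ f ∈ E, f x = x) → x ∈ D := fun x hx =>
    hfx₁ f₁ hf₁ hm₁ x (hx e₁ he₁) (hx f₁ hf₁)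
  set S : Finset (Subgroup W) :=
    Set.Finite.toFinset (Set.toFinite {Q : Subgroup W | ∃ e ∈ E, e ≠ 1 ∧ fixedBy e = Q ∧ ¬ Q ≤ D}) with hS
  have hmemS : ∀ Q, Q ∈ S ↔ ∃ e ∈ E, e ≠ 1 ∧ fixedBy e = Q ∧ ¬ Q ≤ D := fun Q => by
    rw [hS, Set.Finite.mem_toFinset]; rfl
  have hbig : ∀ e ∈ E, e ≠ 1 → ¬ fixedBy e ≤ D → ∃ f₀ ∈ E, ∃ x, e x = x ∧ f₀ x ≠ x := by
    intro e he he1 hnot
    by_contra h
    push Not at h
    exact hnot fun x hx => hDall x fun f hf => h f hf x hx
  have hsub : ∀ e ∈ E, e ≠ 1 → ¬ fixedBy e ≤ D → ∀ f ∈ E, f ≠ 1 →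
      fixedBy e ≤ fixedBy f → fixedBy f = fixedBy e := by
    intro e he he1 hnot f hf hf1 hle
    obtain ⟨g, hg, hgm⟩ := hbig e he he1 hnot
    obtain ⟨g', hg', hgm'⟩ := hbig f hf hf1 fun h => hnot (hle.trans h)
    refine (eq_of_le_of_card_ge hle ?_).symm
    rw [(hC e he he1 g hg hgm).2.1, (hC f hf hf1 g' hg' hgm').2.1]
  have hgen : ∀ U : Subgroup W, (∀ f ∈ E, ∀ x ∈ U, f x ∈ U) → ∀ T : Subgroup W, D ≤ T →
      (∀ Q ∈ S, U ⊓ Q ≤ T) → U ≤ T := by
    intro U hU T hDT hT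
    refine gen_fixed hW hp hE hab hnc U hU T fun e he he1 => ?_
    by_cases h : fixedBy e ≤ D
    · exact inf_le_right.trans (h.trans hDT)
    · exact hT _ ((hmemS _).mpr ⟨e, he, he1, rfl, h⟩)
  have hDQ : ∀ Q ∈ S, D ≤ Q := fun Q hQ x hx => by
    obtain ⟨e, he, he1, rfl, -⟩ := (hmemS Q).mp hQ
    exact hDfix e he x hx
  have hQinv : ∀ Q ∈ S, ∀ f ∈ E, ∀ x ∈ Q, f x ∈ Q := fun Q hQ => by
    obtain ⟨e, he, he1, rfl, -⟩ := (hmemS Q).mp hQ
    exact fixedBy_invariant hab he
  have hQ : ∀ Q ∈ S, Nat.card Q = 8 ∧ (∀ x ∈ Q, (∀ w ∈ Q, x * w = w * x) → x ∈ D) ∧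
      (∀ x ∈ Q, x * x ∈ D) ∧
      ∀ U : Subgroup W, U ≤ Q → (∀ f ∈ E, ∀ x ∈ U, f x ∈ U) → U ≤ D ∨ U = Q := fun Q hQ => by
    obtain ⟨e, he, he1, rfl, hnot⟩ := (hmemS Q).mp hQ
    obtain ⟨g, hg, hgm⟩ := hbig e he he1 hnot
    obtain ⟨-, a, b, c, -, d, -⟩ := hC e he he1 g hg hgm
    exact ⟨a, b, c, d⟩
  -- the order of `E`
  obtain ⟨hE9, hScard⟩ : Nat.card E = 9 ∧ 2 ≤ S.card ∧ S.card ≤ 4 := by
    have hnot₁ : ¬ fixedBy e₁ ≤ D := fun hle => by
      obtain ⟨x, hx, hne⟩ := hm₁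
      exact hne (hDfix f₁ hf₁ x (hle hx))
    have hS1 : fixedBy e₁ ∈ S := (hmemS _).mpr ⟨e₁, he₁, he₁1, rfl, hnot₁⟩
    obtain ⟨Q₂, hQ₂, hne⟩ : ∃ Q₂ ∈ S, Q₂ ≠ fixedBy e₁ := by
      by_contra h
      push Not at h
      refine he₁1 (MulEquiv.ext fun x => ?_)
      exact hgen ⊤ (fun _ _ _ _ => mem_top _) (fixedBy e₁) (hDQ _ hS1)
        (fun Q hQ => inf_le_right.trans (h Q hQ).le) (mem_top x)
    obtain ⟨e₂, he₂, he₂1, rfl, hnot₂⟩ := (hmemS Q₂).mp hQ₂
    obtain ⟨g, hg, hgm⟩ := hbig e₂ he₂ he₂1 hnot₂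
    obtain ⟨-, -, -, -, -, -, K₁, hK₁, hK₁m⟩ := hC e₁ he₁ he₁1 f₁ hf₁ hm₁
    obtain ⟨-, -, -, -, -, -, K₂, hK₂, hK₂m⟩ := hC e₂ he₂ he₂1 g hg hgm
    have hK : K₁ ⊓ K₂ = ⊥ := by
      rw [eq_bot_iff]
      intro f hf
      by_contra hf1
      have hf1' : (f : MulAut W) ≠ 1 := fun h => hf1 (mem_bot.mpr (Subtype.ext h))
      apply hne
      rw [← hsub e₂ he₂ he₂1 hnot₂ f f.2 hf1' ((hK₂m f).mp hf.2)]
      exact hsub e₁ he₁ he₁1 hnot₁ f f.2 hf1' ((hK₁m f).mp hf.1)
    have hle9 : Nat.card E ≤ 9 := by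
      have h := Subgroup.index_inf_le (H := K₁) (K := K₂)
      rwa [hK, index_bot, hK₁, hK₂] at h
    have hE9 : Nat.card E = 9 := by
      obtain ⟨a, ha⟩ := hE.exists_card_eq
      rcases a with _ | _ | a
      · haveI : Subsingleton E := (Nat.card_eq_one_iff_unique.mp (by rw [ha, pow_zero])).1
        exact absurd isCyclic_of_subsingleton hnc
      · exact absurd (isCyclic_of_prime_card (p := 3) (by rw [ha, pow_one])) hnc
      · have : a = 0 := by
          by_contra hne0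
          have h27 : 3 ^ 3 ≤ 3 ^ (a + 1 + 1) := Nat.pow_le_pow_right (by norm_num) (by omega)
          rw [ha] at hle9
          omega
        subst this
        rw [ha]; norm_num
    refine ⟨hE9, ?_, ?_⟩
    · exact Finset.one_lt_card.mpr ⟨_, hS1, _, hQ₂, fun h => hne h.symm⟩
    · set N : Finset E := Set.Finite.toFinset (Set.toFinite {f : E | f ≠ 1}) with hN
      have hNc : N.card = 8 := by
        cases nonempty_fintype E
        have : N = Finset.univ.erase 1 := by ext f; simp [hN]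
        rw [this, Finset.card_erase_of_mem (Finset.mem_univ _), Finset.card_univ, ← Nat.card_eq_fintype_card, hE9]
      have hcount : 2 * S.card ≤ N.card := by
        refine le_trans ?_ (Finset.card_filter_le N (fun f => fixedBy (f : MulAut W) ∈ S))
        refine Finset.mul_card_image_le_card_of_maps_to (f := fun f : E => fixedBy (f : MulAut W))
          (fun f hf => (Finset.mem_filter.mp hf).2) 2 ?_
        intro Q hQ
        have hQS := hQ
        obtain ⟨e, he, he1, rfl, -⟩ := (hmemS Q).mp hQ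
        have hfe : fixedBy e⁻¹ = fixedBy e := by
          ext x
          show e⁻¹ x = x ↔ e x = x
          constructor
          · intro h; conv_lhs => rw [← h]
            exact e.apply_symm_apply x
          · intro h; conv_lhs => rw [← h]
            exact e.symm_apply_apply x
        refine Finset.one_lt_card.mpr ⟨⟨e, he⟩, ?_, ⟨e⁻¹, E.inv_mem he⟩, ?_, ?_⟩
        · refine Finset.mem_filter.mpr ⟨Finset.mem_filter.mpr ⟨?_, hQS⟩, rfl⟩
          rw [hN, Set.Finite.mem_toFinset]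
          exact fun h => he1 (congrArg Subtype.val h)
        · refine Finset.mem_filter.mpr ⟨Finset.mem_filter.mpr ⟨?_, by
            show fixedBy e⁻¹ ∈ S
            rw [hfe]; exact hQS⟩, hfe⟩
          rw [hN, Set.Finite.mem_toFinset]
          exact fun h => he1 (inv_eq_one.mp (congrArg Subtype.val h))
        · intro h
          have h1 : e ^ 2 = 1 := by rw [sq, mul_eq_one_iff_eq_inv]; exact congrArg Subtype.val h
          have h3 : e ^ 9 = 1 := by
            have := congrArg Subtype.val (pow_card_eq_one' (x := (⟨e, he⟩ : E)))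
            rwa [hE9] at this
          rw [show (9 : ℕ) = 2 * 4 + 1 from rfl, pow_succ, pow_mul, h1, one_pow, one_mul] at h3
          exact he1 h3
      omega
  -- the centre
  have hZ : center W = D := by
    refine le_antisymm (hgen _ (fun f _ x hx => ?_) D le_rfl fun Q hQ' x hx => ?_) hDc
    · rw [mem_center_iff]
      intro y
      obtain ⟨y, rfl⟩ := f.surjective y
      rw [← map_mul, ← map_mul, mem_center_iff.mp hx]
    · exact (hQ Q hQ').2.1 x hx.2 fun w _ => (mem_center_iff.mp hx.1 w).symm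
  -- the second centre
  haveI hDn : D.Normal := hZ ▸ inferInstance
  set A : Subgroup W := (center (W ⧸ D)).comap (QuotientGroup.mk' D) with hA
  have hAmem : ∀ x ∈ A, ∀ y : W, x * y * x⁻¹ * y⁻¹ ∈ D := by
    intro x hx y
    rw [← QuotientGroup.eq_one_iff]
    have h := mem_center_iff.mp (mem_comap.mp hx) (QuotientGroup.mk' D y)
    simp only [QuotientGroup.mk_mul, QuotientGroup.mk_inv]
    rw [mul_inv_eq_one, mul_inv_eq_iff_eq_mul]
    exact h.symm
  have hAof : ∀ x : W, (∀ y : W, x * y * x⁻¹ * y⁻¹ ∈ D) → x ∈ A := by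
    intro x hx
    rw [hA, mem_comap, mem_center_iff]
    intro y
    obtain ⟨y, rfl⟩ := QuotientGroup.mk'_surjective D y
    have h := (QuotientGroup.eq_one_iff _).mpr (hx y)
    simp only [QuotientGroup.mk_mul, QuotientGroup.mk_inv] at h
    rw [mul_inv_eq_one, mul_inv_eq_iff_eq_mul] at h
    exact h.symm
  have hAinv : ∀ f ∈ E, ∀ x ∈ A, f x ∈ A := by
    intro f hf x hx
    refine hAof _ fun y => ?_
    obtain ⟨y, rfl⟩ := f.surjective y
    rw [← map_inv, ← map_inv, ← map_mul, ← map_mul, ← map_mul, hDfix f hf _ (hAmem x hx y)]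
    exact hAmem x hx y
  have hcomm : ∀ Q ∈ S, Q ≤ A → ∀ Q' ∈ S, Q' ≠ Q → ∀ x ∈ Q, ∀ y ∈ Q', x * y = y * x := by
    intro Q hQ₁ hQA Q' hQ' hne
    obtain ⟨a, ha, ha1, rfl, hnota⟩ := (hmemS Q).mp hQ₁
    obtain ⟨b, hb, hb1, rfl, hnotb⟩ := (hmemS Q').mp hQ'
    obtain ⟨g, hg, hgm⟩ := hbig b hb hb1 hnotb
    obtain ⟨-, h8, -, -, hfxb, hUb, -⟩ := hC b hb hb1 g hg hgm
    have ham : ∃ y, b y = y ∧ a y ≠ y := by
      by_contra h
      push Not at h
      exact hne (hsub b hb hb1 hnotb a ha ha1 fun y hy => h y hy).symm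
    set L := fixedBy b ⊓ centralizer (fixedBy a : Set W) with hL
    have hLinv : ∀ f ∈ E, ∀ y ∈ L, f y ∈ L := by
      intro f hf y hy
      refine ⟨fixedBy_invariant hab hb f hf y hy.1, fun x hx => ?_⟩
      obtain ⟨x', rfl⟩ := f.surjective x
      have hx' : x' ∈ fixedBy a := by
        have h := fixedBy_invariant hab ha f⁻¹ (E.inv_mem hf) _ hx
        rwa [show f⁻¹ (f x') = x' from f.symm_apply_apply x'] at h
      rw [← map_mul, ← map_mul, hy.2 x' hx']
    have hmem : ∀ y ∈ fixedBy b, y⁻¹ * a y ∈ L := by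
      intro y hy
      refine ⟨(fixedBy b).mul_mem ((fixedBy b).inv_mem hy) (fixedBy_invariant hab hb a ha y hy), fun x hx => ?_⟩
      have hd := hAmem x (hQA hx) y
      have h1 : x * a y * x⁻¹ * (a y)⁻¹ = x * y * x⁻¹ * y⁻¹ := by
        have := hDfix a ha _ hd
        rwa [map_mul, map_mul, map_mul, map_inv, map_inv, mem_fixedBy.mp hx] at this
      have hdc := mem_center_iff.mp (hDc hd)
      have h2 : x * a y = (x * y * x⁻¹ * y⁻¹) * (a y * x) := by rw [← h1]; group
      have h3 : x * y⁻¹ = y⁻¹ * (x * y * x⁻¹ * y⁻¹)⁻¹ * x := by group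
      calc x * (y⁻¹ * a y) = y⁻¹ * (x * y * x⁻¹ * y⁻¹)⁻¹ * (x * a y) := by
            rw [← mul_assoc, h3]; group
        _ = y⁻¹ * a y * x := by rw [h2]; group
    rcases hUb L inf_le_left hLinv with h | h
    · exfalso
      obtain ⟨y, hy, hay⟩ := ham
      apply hay
      set d := y⁻¹ * a y with hd
      have hdD : d ∈ D := h (hmem y hy)
      have hy1 : a y = y * d := by rw [hd, mul_inv_cancel_left]
      have ha3 : a ^ 9 = 1 := by
        have := congrArg Subtype.val (pow_card_eq_one' (x := (⟨a, ha⟩ : E)))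
        rwa [hE9] at this
      have hpow : ∀ n : ℕ, (a ^ n) y = y * d ^ n := by
        intro n
        induction n with
        | zero => simp
        | succ n ih => rw [pow_succ', MulAut.mul_apply, ih, map_mul, map_pow, hDfix a ha d hdD, hy1, mul_assoc, ← pow_succ']
      have h9 := hpow 9
      rw [ha3, MulAut.one_apply, left_eq_mul] at h9
      have hd2 : d * d = 1 := hDsq d hdD
      have : d = 1 := by
        rw [← h9, show (9 : ℕ) = 2 * 4 + 1 from rfl, pow_succ, pow_mul, sq, hd2, one_pow, one_mul]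
      rw [hy1, this, mul_one]
    · intro x hx y hy
      have hy' : y ∈ L := h ▸ hy
      exact hy'.2 x hx
  -- every factor lies in the second centre
  have htop : ∀ T : Subgroup W, D ≤ T → (∀ Q ∈ S, Q ≤ T) → T = ⊤ := fun T h1 h2 =>
    top_le_iff.mp (hgen ⊤ (fun _ _ _ _ => mem_top _) T h1 fun Q hQ' => inf_le_right.trans (h2 Q hQ'))
  have hall : ∀ Q ∈ S, Q ≤ A := by
    by_contra hcon
    push Not at hcon
    obtain ⟨Q₀, hQ₀, hQ₀A⟩ := hcon
    set R := ⨆ Q ∈ S.filter (fun Q => ¬ Q ≤ A), Q with hR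
    have hRQ : ∀ Q ∈ S, ¬ Q ≤ A → Q ≤ R := fun Q h1 h2 =>
      le_iSup₂ (f := fun Q (_ : Q ∈ S.filter fun Q => ¬ Q ≤ A) => Q) Q (Finset.mem_filter.mpr ⟨h1, h2⟩)
    have hRinv : ∀ f ∈ E, ∀ x ∈ R, f x ∈ R := by
      intro f hf
      have : R ≤ R.comap f.toMonoidHom := iSup₂_le fun Q hQ' x hx =>
        hRQ Q (Finset.mem_filter.mp hQ').1 (Finset.mem_filter.mp hQ').2
          (hQinv Q (Finset.mem_filter.mp hQ').1 f hf x hx)
      exact fun x hx => this hx
    have hRcent : ∀ Q ∈ S, Q ≤ A → R ≤ centralizer (Q : Set W) := fun Q h1 h2 =>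
      iSup₂_le fun Q' hQ' y hy x hx => hcomm Q h1 h2 Q' (Finset.mem_filter.mp hQ').1
        (fun h => (Finset.mem_filter.mp hQ').2 (h ▸ h2)) x hx y hy
    haveI hRn : R.Normal := by
      rw [← normalizer_eq_top_iff]
      refine htop _ (hDc.trans (center_le_normalizer _)) fun Q hQ' => ?_
      by_cases h : Q ≤ A
      · exact (le_centralizer_iff.mp (hRcent Q hQ' h)).trans (centralizer_le_normalizer _)
      · exact (hRQ Q hQ' h).trans le_normalizer
    haveI : (R.map (QuotientGroup.mk' D)).Normal := Normal.map hRn _ (QuotientGroup.mk'_surjective D)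
    obtain ⟨r, hr, hr1, hrc⟩ : ∃ r, r ∈ R.map (QuotientGroup.mk' D) ∧ r ≠ 1 ∧ r ∈ center (W ⧸ D) := by
      have hne : R.map (QuotientGroup.mk' D) ≠ ⊥ := fun h => by
        obtain ⟨e, he, he1, rfl, hnot⟩ := (hmemS Q₀).mp hQ₀
        refine hnot fun x hx => ?_
        have hx' := mem_map_of_mem (QuotientGroup.mk' D) (hRQ _ hQ₀ hQ₀A hx)
        rw [h, mem_bot] at hx'
        exact (QuotientGroup.eq_one_iff x).mp hx'
      obtain ⟨r, hr, hrc, ho⟩ := CfsgLib.PGroup.exists_central_orderOf_eq (hW.to_quotient D) (R.map (QuotientGroup.mk' D)) hne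
      exact ⟨r, hr, fun h => by rw [h, orderOf_one] at ho; exact absurd ho (by norm_num), hrc⟩
    obtain ⟨x, hx, rfl⟩ := mem_map.mp hr
    have hnot : ¬ R ⊓ A ≤ D := fun h => hr1 ((QuotientGroup.eq_one_iff x).mpr (h ⟨hx, hrc⟩))
    obtain ⟨Q, hQ', hQne⟩ : ∃ Q ∈ S, ¬ R ⊓ A ⊓ Q ≤ D := by
      by_contra h
      push Not at h
      exact hnot (hgen (R ⊓ A) (fun f hf x hx => ⟨hRinv f hf x hx.1, hAinv f hf x hx.2⟩) D le_rfl h)
    have hQeq : R ⊓ A ⊓ Q = Q := ((hQ Q hQ').2.2.2 (R ⊓ A ⊓ Q) inf_le_right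
      (fun f hf x hx => ⟨⟨hRinv f hf x hx.1.1, hAinv f hf x hx.1.2⟩, hQinv Q hQ' f hf x hx.2⟩)).resolve_left hQne
    have hQR : Q ≤ R := hQeq ▸ inf_le_left.trans inf_le_left
    have hQA : Q ≤ A := hQeq ▸ inf_le_left.trans inf_le_right
    exact hQne (inf_le_right.trans fun x hx => (hQ Q hQ').2.1 x hx fun w hw =>
      ((hRcent Q hQ' hQA) (hQR hx) w hw).symm)
  -- the order of `W`
  have hprod : ∀ s : Finset (Subgroup W), s ⊆ S → Nat.card ↥(D ⊔ ⨆ Q ∈ s, Q) = 2 * 4 ^ s.card := by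
    intro s
    induction s using Finset.induction_on with
    | empty => intro _; simp [hDcard]
    | @insert Q s hQs ih =>
      intro hsS
      rw [Finset.insert_subset_iff] at hsS
      set T := D ⊔ ⨆ Q' ∈ s, Q' with hT
      have hc : ∀ x ∈ Q, ∀ y ∈ T, x * y = y * x := by
        have : T ≤ centralizer (Q : Set W) := sup_le (fun d hd x _ => mem_center_iff.mp (hDc hd) x)
          (iSup₂_le fun Q' hQ' y hy x hx => hcomm Q hsS.1 (hall Q hsS.1) Q' (hsS.2 hQ')
            (fun h => hQs (h ▸ hQ')) x hx y hy)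
        exact fun x hx y hy => this hy x hx
      have hint : Q ⊓ T = D := le_antisymm (fun x hx => (hQ Q hsS.1).2.1 x hx.1
        fun w hw => (hc w hw x hx.2).symm) (le_inf (hDQ Q hsS.1) le_sup_left)
      have hsup : D ⊔ ⨆ Q' ∈ insert Q s, Q' = Q ⊔ T := by
        rw [Finset.iSup_insert, hT, sup_left_comm]
      have h := card_sup_of_commute hc
      rw [hint, hDcard, (hQ Q hsS.1).1, ih hsS.2] at h
      rw [hsup, Finset.card_insert_of_notMem hQs, pow_succ]
      omega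
  have hWcard : Nat.card W = 2 * 4 ^ S.card := by
    rw [← hprod S (Finset.Subset.refl S), htop (D ⊔ ⨆ Q ∈ S, Q) le_sup_left
      (fun Q hQ' => le_sup_of_le_right (le_iSup₂ (f := fun Q (_ : Q ∈ S) => Q) Q hQ')), card_top]
  have hAtop : ∀ x y : W, x * y * x⁻¹ * y⁻¹ ∈ D := by
    have h : A = ⊤ := htop A (fun d hd => hAof d fun y => by
      rw [← mem_center_iff.mp (hDc hd) y, mul_inv_cancel_right, mul_inv_cancel]; exact one_mem _) hall
    exact fun x y => hAmem x (h ▸ mem_top x) y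
  have hsquare : ∀ x : W, x * x ∈ D := by
    let Sq : Subgroup W :=
      { carrier := {x | x * x ∈ D}
        one_mem' := by simp
        inv_mem' := fun {a} ha => by
          show a⁻¹ * a⁻¹ ∈ D
          rw [← mul_inv_rev]; exact inv_mem ha
        mul_mem' := fun {a b} ha hb => by
          show a * b * (a * b) ∈ D
          have h : a * b * (a * b) = a * (b * a * b⁻¹ * a⁻¹) * (a * (b * b)) := by group
          rw [h, mem_center_iff.mp (hDc (hAtop b a)) a, mul_assoc (b * a * b⁻¹ * a⁻¹), ← mul_assoc a a]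
          exact mul_mem (hAtop b a) (mul_mem ha hb) }
    have h : Sq = ⊤ := htop Sq (fun d hd => by
      show d * d ∈ D
      exact mul_mem hd hd) fun Q hQ' x hx => (hQ Q hQ').2.2.1 x hx
    exact fun x => (h ▸ mem_top x : x ∈ Sq)
  have hcomD : commutator W = D := by
    refine le_antisymm ?_ ?_
    · rw [_root_.commutator_def, commutator_le]
      exact fun x _ y _ => by rw [commutatorElement_def]; exact hAtop x y
    · by_contra hnle
      have hbot : commutator W = ⊥ := by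
        rw [eq_bot_iff]
        intro c hc
        have hcD : c ∈ D := by
          have : commutator W ≤ D := by
            rw [_root_.commutator_def, commutator_le]
            exact fun x _ y _ => by rw [commutatorElement_def]; exact hAtop x y
          exact this hc
        obtain ⟨k, rfl⟩ := mem_zpowers_iff.mp hcD
        rcases Int.even_or_odd' k with ⟨j, rfl | rfl⟩
        · rw [zpow_mul, zpow_two, ← sq, show z ^ 2 = 1 from hz2 ▸ pow_orderOf_eq_one z, one_zpow]
          exact one_mem _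
        · exfalso
          apply hnle
          rw [zpow_add, zpow_one, zpow_mul, zpow_two, ← sq, show z ^ 2 = 1 from hz2 ▸ pow_orderOf_eq_one z, one_zpow, one_mul] at hc
          exact zpowers_le.mpr hc
      have : center W = ⊤ := by
        rw [eq_top_iff]
        intro x _
        rw [mem_center_iff]
        intro y
        have : ⁅y, x⁆ ∈ commutator W := commutator_mem_commutator (mem_top y) (mem_top x)
        rw [hbot, mem_bot, commutatorElement_eq_one_iff_mul_comm] at this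
        exact this
      have h := congrArg (fun H : Subgroup W => Nat.card H) (this.symm.trans hZ)
      simp only [card_top, hDcard, hWcard] at h
      have : 4 ^ 2 ≤ 4 ^ S.card := Nat.pow_le_pow_right (by norm_num) hScard.1
      omega
  refine ⟨hE9, ⟨⟨hW, ?_, hcomD.trans hZ.symm⟩, by rw [hZ, hDcard]⟩, ?_, ?_⟩
  · rw [hZ]
    exact le_antisymm (CfsgLib.PGroup.frattini_le_of_elementary (p := 2)
      (fun x y => by rw [commutatorElement_def]; exact hAtop x y) (fun x => by rw [sq]; exact hsquare x))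
      (hcomD ▸ CfsgLib.PGroup.commutator_le_frattini hW)
  · obtain ⟨h2, h4⟩ := hScard
    rw [hWcard]
    have : S.card = 2 ∨ S.card = 3 ∨ S.card = 4 := by omega
    rcases this with h | h | h <;> rw [h] <;> norm_num
  · rw [hZ]
    ext x
    exact ⟨fun h => hDall x h, fun h e he => hDfix e he x h⟩

end CfsgLib.TwoFusion.LocalFix
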